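import Cfsg.Agent.Lib.Perm.Trans.SpinOver.Main
import Cfsg.Agent.Lib.Descent.Similitude

/-!
# Factors of dimension two and four
-/

set_option autoImplicit false
set_option linter.all false

namespace CfsgLib.Perm.Trans.SpinOver

open scoped Classical Matrix
open Matrix Cfsg.Geo CfsgLib.Perm.Asch CfsgLib.Perm.Trans CfsgLib.Perm.Trans.Quad

variable {ι : Type} [Fintype ι] [DecidableEq ι] {F : Type*} [Field F] [Fintype F] {t : ℕ}
variable {Q : (ι → F) → F} {G : Matrix ι ι F} {c : F}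

/-- two-dimensional factors -/
theorem two_not_maximal [Nonempty ι] {J : Matrix (Fin 2) (Fin 2) F} {e : ι ≃ (Fin t → Fin 2)} {P : GL ι F}
    (D : TP Q G J c e P) (hq : Fintype.card F ≠ 2) (ht : 4 ≤ t) (halt : ∀ a, J a a = 0) (hs : J 1 0 = J 0 1) :
    ∃ K : Subgroup (GL ι F), tensorWreathSubgroup 2 t e P ⊓ omegaGL Q < K ∧ K < omegaGL Q := by
  have h2 := D.two
  have hne : ∀ x : F, x + x = 0 := fun x => by rw [← two_mul, h2, zero_mul]
  obtain ⟨lam, hl0, hl1⟩ : ∃ lam : F, lam ≠ 0 ∧ lam ≠ 1 := by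
    obtain ⟨x, y, z, hxy, hxz, hyz⟩ := Fintype.two_lt_card_iff.1 (lt_of_le_of_ne Fintype.one_lt_card (Ne.symm hq))
    by_contra hcon
    push Not at hcon
    by_cases hx : x = 0
    · exact hyz ((hcon y (fun h => hxy (hx.trans h.symm))).trans (hcon z (fun h => hxz (hx.trans h.symm))).symm)
    · by_cases hy : y = 0
      · exact hxz ((hcon x hx).trans (hcon z (fun h => hyz (hy.trans h.symm))).symm)
      · exact hxy ((hcon x hx).trans (hcon y hy).symm)
  have hlu : lam ^ 2 + 1 ≠ 0 := fun h0 => hl1 (by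
    have : (lam - 1) ^ 2 = 0 := by linear_combination h0 - lam * h2
    exact sub_eq_zero.1 (sq_eq_zero_iff.1 this))
  let hj : GL (Fin 2) F :=
    ⟨!![lam, 0; 0, lam⁻¹], !![lam⁻¹, 0; 0, lam],
      by ext a b; fin_cases a <;> fin_cases b <;> simp [hl0],
      by ext a b; fin_cases a <;> fin_cases b <;> simp [hl0]⟩
  have hsym : ∀ X : Matrix (Fin 2) (Fin 2) F, X 0 0 = X 1 1 → SymJ J X := fun X hX => by
    ext a b
    fin_cases a <;> fin_cases b <;> simp [Matrix.mul_apply, Fin.sum_univ_two, halt, hs, hX]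
  let i₀ : Fin t := ⟨0, by omega⟩
  let j₀ : Fin t := ⟨1, by omega⟩
  let l₀ : Fin t := ⟨2, by omega⟩
  let m₀ : Fin t := ⟨3, by omega⟩
  have hone : ∀ a : Fin 2, (J * (1 : Matrix (Fin 2) (Fin 2) F)) a a = 0 := fun a => by rw [mul_one]; exact halt a
  refine not_maximal D (fun X => X 0 0 = X 1 1) ?_ ?_ (hj := hj) ?_ (B₀ := !![0, 1; 0, 0])
    (B := !![0, lam ^ 2 + 1; 0, 0]) (hsym _ (by simp)) ?_ (by simp) ?_ (u := 0) (v := 1) (by simp)
    (by simpa using hlu) (i := i₀) (j := j₀) (by simp [i₀, j₀, Fin.ext_iff]) (A := !![0, 1; 0, 0])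
    (X := !![0, 0; 1, 0]) (by simp) (by simp) ?_ (hsym _ (by simp)) (Or.inr ⟨m₀, by simp [m₀, j₀, Fin.ext_iff], ?_⟩)
    ?_ (u' := 1) (v' := 0) (by simp) (by simp)
    (A₂ := Function.update (Pi.mulSingle i₀ !![0, 1; 0, 0]) l₀ !![0, 1; 0, 0]) ?_
    ⟨l₀, by simp [l₀, j₀, Fin.ext_iff], ?_⟩ (Or.inr ⟨m₀, by simp [m₀, j₀, Fin.ext_iff], ?_⟩)
    (X₂ := !![0, 0; 1, 0]) (by simp) (l := l₀) (by simp [l₀, j₀, Fin.ext_iff]) (u'' := 0) (v'' := 1) (by simp) ?_ ?_
  · intro a d _ _ X hX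
    have h1 : (cj a X).trace = X.trace := by rw [cj, Matrix.trace_mul_cycle, gl_inv_mul, one_mul]
    simp only [Matrix.trace, Fin.sum_univ_two, Matrix.diag_apply] at h1
    show cj a X 0 0 = cj a X 1 1
    linear_combination h1 + hX - (cj a X 1 1 - X 1 1) * h2
  · intro X Y hX hY
    refine ⟨X 0 1 * Y 1 0 + X 1 0 * Y 0 1, ?_⟩
    ext a b
    fin_cases a <;> fin_cases b <;> simp [Matrix.mul_apply, Fin.sum_univ_two, hX, hY]
    · linear_combination X 1 1 * Y 1 1 * h2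
    · linear_combination (X 1 1 * Y 0 1 + X 0 1 * Y 1 1) * h2
    · linear_combination (X 1 1 * Y 1 0 + X 1 0 * Y 1 1) * h2
    · linear_combination X 1 1 * Y 1 1 * h2
  · ext a b
    fin_cases a <;> fin_cases b <;> simp [hj, Matrix.mul_apply, Fin.sum_univ_two, halt, hs, hl0] <;> field_simp
  · ext a b
    fin_cases a <;> fin_cases b <;> simp [hj, cj, Matrix.mul_apply, Fin.sum_univ_two] <;> ring
  · ext a b; fin_cases a <;> fin_cases b <;> simp [Matrix.mul_apply, Fin.sum_univ_two]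
  · ext a b; fin_cases a <;> fin_cases b <;> simp [Matrix.mul_apply, Fin.sum_univ_two]
  · simpa [m₀, i₀, Fin.ext_iff, Pi.mulSingle_eq_of_ne] using hone
  · ext a b; fin_cases a <;> fin_cases b <;> simp [Matrix.mul_apply, Fin.sum_univ_two]
  · intro m
    rcases eq_or_ne m l₀ with rfl | hm
    · simpa using hsym _ (by simp)
    rcases eq_or_ne m i₀ with rfl | hm'
    · simpa [hm] using hsym _ (by simp)
    · simpa [hm, Pi.mulSingle_eq_of_ne hm'] using hsym 1 (by simp)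
  · rw [Function.update_self]
    ext a b; fin_cases a <;> fin_cases b <;> simp [Matrix.mul_apply, Fin.sum_univ_two]
  · have h1 : m₀ ≠ l₀ := by simp [m₀, l₀, Fin.ext_iff]
    have h2 : m₀ ≠ i₀ := by simp [m₀, i₀, Fin.ext_iff]
    simpa [h1, Pi.mulSingle_eq_of_ne h2] using hone
  · have h1 : l₀ ≠ i₀ := by simp [l₀, i₀, Fin.ext_iff]
    simp [h1]
  · intro m hm hml
    rcases eq_or_ne m i₀ with rfl | hm'
    · rw [Function.update_self, Function.update_of_ne hml, Pi.mulSingle_eq_same]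
      ext a b; fin_cases a <;> fin_cases b <;> simp [Matrix.mul_apply, Fin.sum_univ_two]
    · simp [hm', hml, Pi.mulSingle_eq_of_ne hm']

/-- the standard alternating form on four letters -/
def J4 : Matrix (Fin 4) (Fin 4) F := !![0, 0, 0, 1; 0, 0, 1, 0; 0, 1, 0, 0; 1, 0, 0, 0]

/-- the five-dimensional space -/
def W4 (X : Matrix (Fin 4) (Fin 4) F) : Prop :=
  X = !![X 0 0, X 0 1, X 0 2, 0; X 1 0, X 0 0, 0, X 0 2; X 2 0, 0, X 0 0, X 0 1; 0, X 2 0, X 1 0, X 0 0]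

theorem W4_mk (p b r a d : F) : W4 !![p, b, r, 0; a, p, 0, r; d, 0, p, b; 0, d, a, p] := by
  simp [W4]

theorem W4_iff_sq (h2 : (2 : F) = 0) (X : Matrix (Fin 4) (Fin 4) F) :
    W4 X ↔ (((J4 : Matrix (Fin 4) (Fin 4) F) * X)ᵀ = J4 * X ∧ (∀ a : Fin 4, ((J4 : Matrix (Fin 4) (Fin 4) F) * X) a a = 0)) ∧ ∃ s : F, X * X = s • 1 := by
  constructor
  · intro h
    rw [h]
    refine ⟨⟨?_, fun a => ?_⟩, X 0 0 * X 0 0 + X 0 1 * X 1 0 + X 0 2 * X 2 0, ?_⟩
    · ext a b; fin_cases a <;> fin_cases b <;> simp [J4, Matrix.mul_apply, Fin.sum_univ_four]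
    · fin_cases a <;> simp [J4, Matrix.mul_apply, Fin.sum_univ_four]
    · ext a b
      fin_cases a <;> fin_cases b <;> simp [Matrix.mul_apply, Fin.sum_univ_four] <;>
        first
          | ring1
          | linear_combination (X 0 0 * X 0 1) * h2
          | linear_combination (X 0 0 * X 0 2) * h2
          | linear_combination (X 0 0 * X 1 0) * h2
          | linear_combination (X 0 0 * X 2 0) * h2
          | linear_combination (X 0 1 * X 0 2) * h2
          | linear_combination (X 1 0 * X 2 0) * h2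
          | linear_combination (X 0 1 * X 2 0) * h2
          | linear_combination (X 1 0 * X 0 2) * h2
  · rintro ⟨⟨hs, hd⟩, s, hsq⟩
    have d0 := hd 0
    have d1 := hd 1
    have d2 := hd 2
    have d3 := hd 3
    have s01 := congrFun (congrFun hs 0) 1
    have s02 := congrFun (congrFun hs 0) 2
    have s03 := congrFun (congrFun hs 0) 3
    have s12 := congrFun (congrFun hs 1) 2
    have s13 := congrFun (congrFun hs 1) 3
    have s23 := congrFun (congrFun hs 2) 3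
    simp [J4, Matrix.mul_apply, Matrix.vecMul, dotProduct, Fin.sum_univ_four] at d0 d1 d2 d3 s01 s02 s03 s12 s13 s23
    have q0 := congrFun (congrFun hsq 0) 0
    have q1 := congrFun (congrFun hsq 1) 1
    simp [Matrix.mul_apply, Fin.sum_univ_four, d0, d1, d2, d3] at q0 q1
    have h11 : X 1 1 = X 0 0 := by
      have : (X 1 1 - X 0 0) ^ 2 = 0 := by
        linear_combination q1 - q0 + (X 0 0 * X 0 0 - X 0 0 * X 1 1) * h2 + X 0 2 * s01 + X 3 1 * s23
      exact sub_eq_zero.1 (sq_eq_zero_iff.1 this)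
    show X = _
    ext a b
    fin_cases a <;> fin_cases b <;>
      simp_all

theorem W4_anti (h2 : (2 : F) = 0) {X Y : Matrix (Fin 4) (Fin 4) F} (hX : W4 X) (hY : W4 Y) :
    ∃ s : F, X * Y + Y * X = s • 1 := by
  have hXY : W4 (X + Y) := by
    show X + Y = _
    ext a b
    have e1 := congrFun (congrFun hX a) b
    have e2 := congrFun (congrFun hY a) b
    fin_cases a <;> fin_cases b <;> simp_all [Matrix.add_apply]
  obtain ⟨-, s, hs⟩ := (W4_iff_sq h2 _).1 hXY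
  obtain ⟨-, s₁, hs₁⟩ := (W4_iff_sq h2 _).1 hX
  obtain ⟨-, s₂, hs₂⟩ := (W4_iff_sq h2 _).1 hY
  refine ⟨s - s₁ - s₂, ?_⟩
  have e : X * Y + Y * X = (X + Y) * (X + Y) - X * X - Y * Y := by simp only [add_mul, mul_add]; abel
  rw [e, hs, hs₁, hs₂, sub_smul, sub_smul]

/-- the exchange of the two halves -/
def swap4 : GL (Fin 4) F :=
  ⟨!![1, 0, 0, 0; 0, 0, 1, 0; 0, 1, 0, 0; 0, 0, 0, 1], !![1, 0, 0, 0; 0, 0, 1, 0; 0, 1, 0, 0; 0, 0, 0, 1],
    by ext a b; fin_cases a <;> fin_cases b <;> simp [Matrix.mul_apply, Fin.sum_univ_four],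
    by ext a b; fin_cases a <;> fin_cases b <;> simp [Matrix.mul_apply, Fin.sum_univ_four]⟩

/-- four-dimensional factors -/
theorem four_not_maximal [Nonempty ι] {e : ι ≃ (Fin t → Fin 4)} {P : GL ι F}
    (D : TP Q G J4 c e P) (ht : 2 ≤ t) :
    ∃ K : Subgroup (GL ι F), tensorWreathSubgroup 4 t e P ⊓ omegaGL Q < K ∧ K < omegaGL Q := by
  have h2 := D.two
  let i₀ : Fin t := ⟨0, by omega⟩
  let j₀ : Fin t := ⟨1, by omega⟩
  have hB₀d : ∀ a : Fin 4, ((J4 : Matrix (Fin 4) (Fin 4) F) * (!![0, 1, 0, 0; 0, 0, 0, 0; 0, 0, 0, 1; 0, 0, 0, 0] : Matrix (Fin 4) (Fin 4) F)) a a = 0 :=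
    fun a => by fin_cases a <;> simp [J4, Matrix.mul_apply, Fin.sum_univ_four]
  refine not_maximal D W4 ?_ (fun X Y => W4_anti h2) (hj := swap4) ?_
    (B₀ := !![0, 1, 0, 0; 0, 0, 0, 0; 0, 0, 0, 1; 0, 0, 0, 0])
    (B := !![0, 1, 1, 0; 0, 0, 0, 1; 0, 0, 0, 1; 0, 0, 0, 0]) ?_ ?_ (W4_mk 0 1 1 0 0) ?_ (u := 0) (v := 1)
    (by simp) (by simp) (i := i₀) (j := j₀) (by simp [i₀, j₀, Fin.ext_iff])
    (A := !![0, 1, 0, 0; 0, 0, 0, 0; 0, 0, 0, 1; 0, 0, 0, 0])
    (X := !![0, 0, 0, 0; 1, 0, 0, 0; 0, 0, 0, 0; 0, 0, 1, 0]) (W4_mk 0 1 0 0 0) (W4_mk 0 0 0 1 0) ?_ ?_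
    (Or.inl hB₀d) ?_ (u' := 1) (v' := 0) (by simp) (by simp)
    (A₂ := Pi.mulSingle i₀ !![0, 0, 0, 1; 0, 0, 0, 0; 0, 0, 0, 0; 0, 0, 0, 0]) ?_
    ⟨i₀, by simp [i₀, j₀, Fin.ext_iff], ?_⟩ (Or.inl hB₀d)
    (X₂ := !![0, 0, 0, 0; 0, 0, 0, 0; 1, 0, 0, 0; 0, 1, 0, 0]) (W4_mk 0 0 0 0 1) (l := i₀)
    (by simp [i₀, j₀, Fin.ext_iff]) (u'' := 0) (v'' := 1) (by simp) ?_ ?_
  · intro a d hd ha X hX
    obtain ⟨⟨hs, hdg⟩, s, hsq⟩ := (W4_iff_sq h2 X).1 hX
    refine (W4_iff_sq h2 _).2 ⟨?_, s, by rw [← cj_mul, hsq, cj_smul, cj_one]⟩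
    set a' := ((a⁻¹ : GL (Fin 4) F) : Matrix (Fin 4) (Fin 4) F)
    have e1 : J4 * cj a X = d • (a'ᵀ * (J4 * X) * a') := by
      have h5 : J4 * (a : Matrix (Fin 4) (Fin 4) F) = a'ᵀ * (d • J4) := by
        rw [← ha, ← mul_assoc, ← mul_assoc, ← Matrix.transpose_mul, gl_mul_inv, Matrix.transpose_one, one_mul]
      rw [cj, ← mul_assoc, ← mul_assoc, h5]
      simp only [mul_smul_comm, smul_mul_assoc, mul_assoc]
      rfl
    rw [e1]
    refine ⟨?_, fun b => ?_⟩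
    · rw [Matrix.transpose_smul, Matrix.transpose_mul, Matrix.transpose_mul, Matrix.transpose_transpose, hs]
      simp only [mul_assoc]
    · rw [Matrix.smul_apply]
      obtain ⟨Z, hZ⟩ : ∃ Z : Matrix (Fin 4) (Fin 4) F, Z = J4 * X := ⟨_, rfl⟩
      rw [← hZ] at hs hdg ⊢
      have hsym : ∀ p r, Z p r = Z r p := fun p r => congrFun (congrFun hs r) p
      have : (a'ᵀ * Z * a') b b = 0 := by
        rw [Matrix.mul_apply]
        simp only [Matrix.mul_apply (M := a'ᵀ), Matrix.transpose_apply, Fin.sum_univ_four, hdg]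
        rw [hsym 1 0, hsym 2 0, hsym 2 1, hsym 3 0, hsym 3 1, hsym 3 2]
        linear_combination (a' 0 b * a' 1 b * Z 0 1 + a' 0 b * a' 2 b * Z 0 2 + a' 0 b * a' 3 b * Z 0 3 +
          a' 1 b * a' 2 b * Z 1 2 + a' 1 b * a' 3 b * Z 1 3 + a' 2 b * a' 3 b * Z 2 3) * h2
      rw [this, smul_zero]
  · ext a b; fin_cases a <;> fin_cases b <;> simp [swap4, J4, Matrix.mul_apply, Fin.sum_univ_four]
  · ext a b; fin_cases a <;> fin_cases b <;> simp [J4, Matrix.mul_apply, Fin.sum_univ_four]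
  · ext a b; fin_cases a <;> fin_cases b <;> simp [swap4, cj, Matrix.mul_apply, Fin.sum_univ_four]
  · ext a b
    fin_cases a <;> fin_cases b <;> simp [Matrix.mul_apply, Fin.sum_univ_four]
    all_goals linear_combination h2
  · ext a b; fin_cases a <;> fin_cases b <;> simp [Matrix.mul_apply, Fin.sum_univ_four]
  · ext a b; fin_cases a <;> fin_cases b <;> simp [J4, Matrix.mul_apply, Fin.sum_univ_four]
  · ext a b; fin_cases a <;> fin_cases b <;> simp [Matrix.mul_apply, Fin.sum_univ_four]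
  · intro m
    rcases eq_or_ne m i₀ with rfl | hm
    · rw [Pi.mulSingle_eq_same]
      ext a b; fin_cases a <;> fin_cases b <;> simp [J4, Matrix.mul_apply, Fin.sum_univ_four]
    · rw [Pi.mulSingle_eq_of_ne hm, SymJ, mul_one]
      ext a b; fin_cases a <;> fin_cases b <;> simp [J4]
  · rw [Pi.mulSingle_eq_same]
    ext a b; fin_cases a <;> fin_cases b <;> simp [Matrix.mul_apply, Fin.sum_univ_four]
  · simp [Matrix.mul_apply, Fin.sum_univ_four]
  · intro m hm hmi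
    simp [hmi, Pi.mulSingle_eq_of_ne hmi]

end CfsgLib.Perm.Trans.SpinOver
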