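import Cfsg.Agent.Lib.Perm.Trans.QuadOmega
import Cfsg.Agent.Lib.Perm.Asch.Forms.SpProper

/-!
# Tensor powers of symplectic forms in characteristic two inside a spin group

A space `W` of one-slot matrices, any two of which anticommute up to scalars, spans a subspace normalised by
more isometries than those which permute the slots.
-/

set_option autoImplicit false
set_option linter.all false

namespace CfsgLib.Perm.Trans.SpinOver

open scoped Classical Matrix
open Matrix Cfsg.Geo CfsgLib.Perm.Asch CfsgLib.Perm.Trans CfsgLib.Perm.Trans.Quad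

variable {ι : Type} [Fintype ι] [DecidableEq ι] {F : Type*} [Field F] {k t : ℕ}

/-- the situation: a tensor power in characteristic two -/
structure TP (Q : (ι → F) → F) (G : Matrix ι ι F) (J : Matrix (Fin k) (Fin k) F) (c : F)
    (e : ι ≃ (Fin t → Fin k)) (P : GL ι F) : Prop where
  two : (2 : F) = 0
  smul : ∀ (a : F) v, Q (a • v) = a ^ 2 * Q v
  pol : ∀ u v, QuadraticMap.polar Q u v = gform (RingHom.id F) G u v
  gram : gramAt (RingHom.id F) G e P = c • Asch.pure (fun _ => J)
  det : G.det ≠ 0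
  jdet : J.det ≠ 0
  pure_zero : ∀ xs : Fin t → Fin k → F, Q ((P : Matrix ι ι F) *ᵥ (Asch.pv xs ∘ e)) = 0

/-- matrices on the tensor power as matrices on `ι` -/
def phi (e : ι ≃ (Fin t → Fin k)) (P : GL ι F) :
    Matrix (Fin t → Fin k) (Fin t → Fin k) F →ₐ[F] Matrix ι ι F :=
  (cjAlg P).toAlgHom.comp (rx e).toAlgHom

theorem phi_apply (e : ι ≃ (Fin t → Fin k)) (P : GL ι F) (X : Matrix (Fin t → Fin k) (Fin t → Fin k) F) :
    phi e P X = cj P (rx e X) := rfl

theorem phi_inj (e : ι ≃ (Fin t → Fin k)) (P : GL ι F) : Function.Injective (phi (F := F) e P) := fun X Y h =>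
  (rx e).injective (cj_injective P h)

theorem phi_mulVec (e : ι ≃ (Fin t → Fin k)) (P : GL ι F) (X : Matrix (Fin t → Fin k) (Fin t → Fin k) F)
    (u : (Fin t → Fin k) → F) :
    phi e P X *ᵥ ((P : Matrix ι ι F) *ᵥ (u ∘ e)) = (P : Matrix ι ι F) *ᵥ ((X *ᵥ u) ∘ e) := by
  rw [phi_apply, cj, mulVec_mulVec, mul_assoc, gl_inv_mul, mul_one, ← mulVec_mulVec]
  congr 1
  exact rx_mulVec e X u

/-- a slot matrix vanishes at two indices differing outside the slot -/
theorem slot_zero (m : Fin t) (Y : Matrix (Fin k) (Fin k) F) {x y : Fin t → Fin k} {l : Fin t} (hl : l ≠ m)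
    (h : x l ≠ y l) : slot m Y x y = 0 := by
  rw [slot_apply, if_neg fun h' => h (h' l hl)]

theorem pure_update_zero (A : Fin t → Matrix (Fin k) (Fin k) F) (l : Fin t) :
    Asch.pure (Function.update A l 0) = 0 := by
  ext x y
  rw [pure_apply]
  exact Finset.prod_eq_zero (Finset.mem_univ l) (by simp)

theorem pure_update_smul (A : Fin t → Matrix (Fin k) (Fin k) F) (l : Fin t) (s : F)
    (Y : Matrix (Fin k) (Fin k) F) :
    Asch.pure (Function.update A l (s • Y)) = s • Asch.pure (Function.update A l Y) := by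
  ext x y
  simp only [Matrix.smul_apply, pure_apply, smul_eq_mul]
  rw [← Finset.mul_prod_erase _ _ (Finset.mem_univ l), ← Finset.mul_prod_erase _ _ (Finset.mem_univ l),
    Function.update_self, Function.update_self, Matrix.smul_apply, smul_eq_mul, mul_assoc]
  congr 2
  refine Finset.prod_congr rfl fun m hm => ?_
  rw [Function.update_of_ne (Finset.ne_of_mem_erase hm), Function.update_of_ne (Finset.ne_of_mem_erase hm)]

theorem pure_mul_zero {A B : Fin t → Matrix (Fin k) (Fin k) F} {l : Fin t} (h : A l * B l = 0) :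
    Asch.pure A * Asch.pure B = 0 := by
  rw [pure_mul]
  ext x y
  rw [pure_apply]
  exact Finset.prod_eq_zero (Finset.mem_univ l) (by simp [h])

/-- `J A` is symmetrical -/
def SymJ (J A : Matrix (Fin k) (Fin k) F) : Prop := (J * A)ᵀ = J * A

section

variable {Q : (ι → F) → F} {G : Matrix ι ι F} {J : Matrix (Fin k) (Fin k) F} {c : F}
variable {e : ι ≃ (Fin t → Fin k)} {P : GL ι F}
variable (D : TP Q G J c e P)
include D

theorem TP.add_self' {M : Type*} [AddCommGroup M] [Module F M] (x : M) : x + x = 0 := by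
  rw [← two_smul F, D.two, zero_smul]

theorem TP.quad_add (x y : ι → F) : Q (x + y) = Q x + Q y + gform (RingHom.id F) G x y := by
  rw [← D.pol]; simp only [QuadraticMap.polar]; ring

/-- a function additive and homogeneous of degree two that kills the pure basis is zero -/
theorem TP.vanish {h : (ι → F) → F} (hadd : ∀ x y, h (x + y) = h x + h y)
    (hsm : ∀ (a : F) x, h (a • x) = a ^ 2 * h x)
    (hb : ∀ x : Fin t → Fin k, h ((P : Matrix ι ι F) *ᵥ ((Pi.single x 1 : (Fin t → Fin k) → F) ∘ e)) = 0)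
    (v : ι → F) : h v = 0 := by
  let H : (ι → F) →+ F := AddMonoidHom.mk' h hadd
  obtain ⟨w, hw⟩ : ∃ w : (Fin t → Fin k) → F, v = (P : Matrix ι ι F) *ᵥ (w ∘ e) :=
    ⟨(((P⁻¹ : GL ι F) : Matrix ι ι F) *ᵥ v) ∘ e.symm, by
      rw [show (((((P⁻¹ : GL ι F) : Matrix ι ι F) *ᵥ v) ∘ e.symm) ∘ e) = ((P⁻¹ : GL ι F) : Matrix ι ι F) *ᵥ v from
        funext fun i => by simp, mulVec_mulVec, gl_mul_inv, one_mulVec]⟩
  have hv : v = ∑ x, w x • ((P : Matrix ι ι F) *ᵥ ((Pi.single x 1 : (Fin t → Fin k) → F) ∘ e)) := by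
    rw [hw]
    simp only [← mulVec_smul, ← Matrix.mulVec_sum]
    congr 1
    funext i
    simp [Finset.sum_apply, Pi.single_apply]
  show H v = 0
  rw [hv, map_sum]
  refine Finset.sum_eq_zero fun x _ => ?_
  show h _ = 0
  rw [hsm, hb, mul_zero]

theorem TP.basis_pure (x : Fin t → Fin k) :
    (Pi.single x 1 : (Fin t → Fin k) → F) = Asch.pv fun l => Pi.single (x l) 1 := by
  funext y
  by_cases h : y = x
  · subst h; simp [Asch.pv]
  · obtain ⟨l, hl⟩ := Function.ne_iff.1 h
    rw [Pi.single_eq_of_ne h]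
    exact (Finset.prod_eq_zero (Finset.mem_univ l) (by simp [hl])).symm

/-- an element preserving the polar form and the pure basis is an isometry -/
theorem TP.iso_of_pure {g : GL ι F} {gs : Fin t → Matrix (Fin k) (Fin k) F}
    (hg : (g : Matrix ι ι F) = phi e P (Asch.pure gs)) (hgs : ∀ l, (gs l)ᵀ * J * gs l = J) :
    g ∈ Cfsg.isometryGroup F Q := by
  have hG : (g : Matrix ι ι F)ᵀ * G * (g : Matrix ι ι F) = G := by
    have hP := gl_inv_mul P
    have hP' := gl_mul_inv P
    have h1 : (P : Matrix ι ι F)ᵀ * G * (P : Matrix ι ι F) = rx e (c • Asch.pure fun _ => J) := by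
      rw [← D.gram, rx_gramAt]; simp
    have h2 : (P : Matrix ι ι F)ᵀ * ((g : Matrix ι ι F)ᵀ * G * (g : Matrix ι ι F)) * (P : Matrix ι ι F) =
        (P : Matrix ι ι F)ᵀ * G * (P : Matrix ι ι F) := by
      have h3 : (g : Matrix ι ι F) * (P : Matrix ι ι F) = (P : Matrix ι ι F) * rx e (Asch.pure gs) := by
        rw [hg, phi_apply, cj, mul_assoc, hP, mul_one]
      calc _ = ((g : Matrix ι ι F) * (P : Matrix ι ι F))ᵀ * G * ((g : Matrix ι ι F) * (P : Matrix ι ι F)) := by
            simp only [Matrix.transpose_mul, mul_assoc]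
        _ = (rx e (Asch.pure gs))ᵀ * ((P : Matrix ι ι F)ᵀ * G * (P : Matrix ι ι F)) * rx e (Asch.pure gs) := by
            rw [h3]; simp only [Matrix.transpose_mul, mul_assoc]
        _ = rx e (c • Asch.pure fun _ => J) := by
            rw [h1, ← rx_transpose, ← map_mul, ← map_mul, pure_transpose, mul_smul_comm, smul_mul_assoc,
              pure_mul, pure_mul]
            congr 3
            funext l
            exact hgs l
        _ = _ := h1.symm
    have hu : IsUnit (P : Matrix ι ι F) := P.isUnit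
    have hu' : IsUnit (P : Matrix ι ι F)ᵀ := (Matrix.isUnit_transpose _).2 hu
    exact hu'.mul_left_cancel (hu.mul_right_cancel h2)
  refine (mem_iso (Q := Q)).2 fun v => ?_
  have := D.vanish (h := fun v => Q ((g : Matrix ι ι F) *ᵥ v) + Q v) ?_ ?_ ?_ v
  · calc Q ((g : Matrix ι ι F) *ᵥ v) = (Q ((g : Matrix ι ι F) *ᵥ v) + Q v) + Q v := by
          rw [add_assoc, D.add_self', add_zero]
      _ = Q v := by rw [this, zero_add]
  · intro x y
    simp only [mulVec_add, D.quad_add, gform_mulVec]
    rw [show (g : Matrix ι ι F).map (RingHom.id F) = (g : Matrix ι ι F) by simp, hG]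
    linear_combination (gform (RingHom.id F) G x y) * D.two
  · intro a x; simp only [mulVec_smul, D.smul]; ring
  · intro x
    show Q _ + Q _ = 0
    rw [D.basis_pure, hg, phi_mulVec, pure_mulVec_pv, D.pure_zero, D.pure_zero, add_zero]

/-- `1 + N` for a self-adjoint pure `N` of square zero is an isometry -/
theorem TP.unip_iso {g : GL ι F} {A : Fin t → Matrix (Fin k) (Fin k) F}
    (hg : (g : Matrix ι ι F) = 1 + phi e P (Asch.pure A)) (hsq : ∃ l, A l * A l = 0) (hs : ∀ l, SymJ J (A l))
    (hd : ∃ l, ∀ a, (J * A l) a a = 0) : g ∈ Cfsg.isometryGroup F Q := by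
  set N := phi e P (Asch.pure A) with hN
  have hNN : N * N = 0 := by
    obtain ⟨l, hl⟩ := hsq
    rw [hN, ← map_mul, pure_mul_zero hl, map_zero]
  have h1 : (P : Matrix ι ι F)ᵀ * (G * N) * (P : Matrix ι ι F) = rx e (c • Asch.pure fun l => J * A l) := by
    have h3 : N * (P : Matrix ι ι F) = (P : Matrix ι ι F) * rx e (Asch.pure A) := by
      rw [hN, phi_apply, cj, mul_assoc, gl_inv_mul, mul_one]
    calc _ = (P : Matrix ι ι F)ᵀ * G * (N * (P : Matrix ι ι F)) := by simp only [mul_assoc]
      _ = (P : Matrix ι ι F)ᵀ * G * (P : Matrix ι ι F) * rx e (Asch.pure A) := by rw [h3]; simp only [mul_assoc]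
      _ = rx e (c • Asch.pure fun _ => J) * rx e (Asch.pure A) := by
          rw [← D.gram, rx_gramAt]; simp
      _ = _ := by rw [← map_mul, smul_mul_assoc, pure_mul]; rfl
  have hsymN : Nᵀ * G = G * N := by
    have hGs : Gᵀ = G := by
      refine gform_ext (σ := RingHom.id F) fun u v => ?_
      rw [← gform_swap, ← D.pol, ← D.pol, QuadraticMap.polar_comm]
    have hu : IsUnit (P : Matrix ι ι F) := P.isUnit
    have hu' : IsUnit (P : Matrix ι ι F)ᵀ := (Matrix.isUnit_transpose _).2 hu
    have h4 : (P : Matrix ι ι F)ᵀ * (G * N)ᵀ * (P : Matrix ι ι F) =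
        (P : Matrix ι ι F)ᵀ * (G * N) * (P : Matrix ι ι F) := by
      have h5 := congrArg Matrix.transpose h1
      rw [Matrix.transpose_mul, Matrix.transpose_mul, Matrix.transpose_transpose, ← rx_transpose,
        Matrix.transpose_smul, pure_transpose, ← mul_assoc] at h5
      rw [h5, h1]
      congr 3
      funext l
      exact hs l
    have := hu'.mul_left_cancel (hu.mul_right_cancel h4)
    rwa [Matrix.transpose_mul, hGs] at this
  have hmv : ∀ x y, gform (RingHom.id F) G (N *ᵥ x) y = gform (RingHom.id F) G x (N *ᵥ y) := by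
    intro x y
    have e1 := gform_mulVec (RingHom.id F) G N 1 x y
    have e2 := gform_mulVec (RingHom.id F) G 1 N x y
    simp only [one_mulVec] at e1 e2
    rw [e1, e2]
    simp [hsymN]
  have hq : ∀ v, Q (N *ᵥ v) = 0 := by
    refine D.vanish ?_ ?_ ?_
    · intro x y
      rw [mulVec_add, D.quad_add, hmv, mulVec_mulVec, hNN, zero_mulVec]
      simp [gform]
    · intro a x; rw [mulVec_smul, D.smul]
    · intro x; rw [D.basis_pure, hN, phi_mulVec, pure_mulVec_pv, D.pure_zero]
  have hb : ∀ v, gform (RingHom.id F) G v (N *ᵥ v) = 0 := by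
    refine D.vanish ?_ ?_ ?_
    · intro x y
      have hsw : gform (RingHom.id F) G y (N *ᵥ x) = gform (RingHom.id F) G x (N *ᵥ y) := by
        rw [← D.pol, QuadraticMap.polar_comm, D.pol, hmv]
      rw [mulVec_add, gform_add_left, gform_add_right, gform_add_right, hsw]
      linear_combination (gform (RingHom.id F) G x (N *ᵥ y)) * D.two
    · intro a x
      rw [mulVec_smul, gform_smul_left, gform_smul_right]; simp; ring
    · intro x
      set b : ι → F := (P : Matrix ι ι F) *ᵥ ((Pi.single x 1 : (Fin t → Fin k) → F) ∘ e) with hb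
      have e2 := gform_mulVec (RingHom.id F) G 1 N b b
      simp only [one_mulVec] at e2
      rw [e2, hb, gform_mulVec]
      rw [show (1 : Matrix ι ι F)ᵀ * G * N.map (RingHom.id F) = G * N by simp,
        show (P : Matrix ι ι F).map (RingHom.id F) = (P : Matrix ι ι F) by simp, h1]
      obtain ⟨l, hl⟩ := hd
      have e3 : ((Pi.single x 1 : (Fin t → Fin k) → F) ∘ e) = Pi.single (e.symm x) 1 := by
        funext i
        simp [Pi.single_apply, Equiv.eq_symm_apply]
      rw [e3, gform_single, rx_apply, Equiv.apply_symm_apply, Matrix.smul_apply, pure_apply,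
        Finset.prod_eq_zero (Finset.mem_univ l) (hl _), smul_zero]
  refine (mem_iso (Q := Q)).2 fun v => ?_
  rw [hg, add_mulVec, one_mulVec, D.quad_add, hq, hb, add_zero, add_zero]

end

/-- the unipotent element `1 + N` -/
def unip (h2 : (2 : F) = 0) (N : Matrix ι ι F) (h : N * N = 0) : GL ι F where
  val := 1 + N
  inv := 1 + N
  val_inv := by
    rw [add_mul, mul_add, one_mul, mul_add, one_mul, mul_one, h, add_zero]
    rw [add_assoc, ← two_smul F, h2, zero_smul, add_zero]
  inv_val := by
    rw [add_mul, mul_add, one_mul, mul_add, one_mul, mul_one, h, add_zero]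
    rw [add_assoc, ← two_smul F, h2, zero_smul, add_zero]

theorem unip_coe (h2 : (2 : F) = 0) (N : Matrix ι ι F) (h : N * N = 0) :
    ((unip h2 N h : GL ι F) : Matrix ι ι F) = 1 + N := rfl

end CfsgLib.Perm.Trans.SpinOver
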