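import Cfsg.Agent.Lib.Perm.Trans.SpinOver.Core
import Cfsg.Agent.Lib.Perm.Asch.Forms.Power

/-!
# The stabiliser of the tensor power is not maximal
-/

set_option autoImplicit false
set_option linter.all false

namespace CfsgLib.Perm.Trans.SpinOver

open scoped Classical Matrix
open Matrix Cfsg.Geo CfsgLib.Perm.Asch CfsgLib.Perm.Trans CfsgLib.Perm.Trans.Quad

variable {ι : Type} [Fintype ι] [DecidableEq ι] {F : Type*} [Field F] {k t : ℕ}

/-- the span of the one-slot matrices of `W₁` -/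
def wsp (e : ι ≃ (Fin t → Fin k)) (P : GL ι F) (W₁ : Matrix (Fin k) (Fin k) F → Prop) :
    Submodule F (Matrix ι ι F) :=
  Submodule.span F {M | ∃ m X, W₁ X ∧ M = phi e P (slot m X)}

/-- the elements normalising the span -/
def wnorm (W : Submodule F (Matrix ι ι F)) : Subgroup (GL ι F) where
  carrier := {g | (∀ w ∈ W, cj g w ∈ W) ∧ ∀ w ∈ W, cj g⁻¹ w ∈ W}
  one_mem' := by simp
  mul_mem' := by
    rintro a b ⟨ha, ha'⟩ ⟨hb, hb'⟩
    refine ⟨fun w hw => ?_, fun w hw => ?_⟩
    · rw [← cj_cj]; exact ha _ (hb w hw)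
    · rw [_root_.mul_inv_rev, ← cj_cj]; exact hb' _ (ha' w hw)
  inv_mem' := by
    rintro a ⟨ha, ha'⟩
    exact ⟨ha', by simpa using ha⟩

theorem cj_gen {e : ι ≃ (Fin t → Fin k)} {P : GL ι F} {W₁ : Matrix (Fin k) (Fin k) F → Prop} {g : GL ι F}
    (h : ∀ m X, W₁ X → cj g (phi e P (slot m X)) ∈ wsp e P W₁) :
    ∀ w ∈ wsp e P W₁, cj g w ∈ wsp e P W₁ := by
  intro w hw
  unfold wsp at hw
  induction hw using Submodule.span_induction with
  | mem x hx => obtain ⟨m, X, hX, rfl⟩ := hx; exact h m X hX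
  | zero => simpa [cj] using (wsp e P W₁).zero_mem
  | add x y _ _ hx hy => rw [cj_add]; exact add_mem hx hy
  | smul a x _ hx => rw [cj_smul]; exact Submodule.smul_mem _ a hx

theorem wsp_zero_entry {e : ι ≃ (Fin t → Fin k)} {P : GL ι F} {W₁ : Matrix (Fin k) (Fin k) F → Prop}
    {x y : Fin t → Fin k} {l l' : Fin t} (hll : l ≠ l') (hl : x l ≠ y l) (hl' : x l' ≠ y l') :
    ∀ w ∈ wsp e P W₁, ∃ Z, w = phi e P Z ∧ Z x y = 0 := by
  intro w hw
  unfold wsp at hw
  induction hw using Submodule.span_induction with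
  | mem w hw =>
    obtain ⟨m, X, -, rfl⟩ := hw
    refine ⟨_, rfl, ?_⟩
    rcases eq_or_ne l m with rfl | h
    · exact slot_zero _ _ hll.symm hl'
    · exact slot_zero _ _ h hl
  | zero => exact ⟨0, by simp, rfl⟩
  | add a b _ _ ha hb =>
    obtain ⟨Z, rfl, hZ⟩ := ha
    obtain ⟨Z', rfl, hZ'⟩ := hb
    exact ⟨Z + Z', by rw [map_add], by simp [hZ, hZ']⟩
  | smul a w _ ha =>
    obtain ⟨Z, rfl, hZ⟩ := ha
    exact ⟨a • Z, by rw [map_smul], by simp [hZ]⟩

theorem slot_mul_pure (m : Fin t) (X : Matrix (Fin k) (Fin k) F) (C : Fin t → Matrix (Fin k) (Fin k) F) :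
    slot m X * Asch.pure C = Asch.pure (Function.update C m (X * C m)) := by
  rw [slot, pure_mul]
  congr 1
  funext l
  rcases eq_or_ne l m with rfl | h <;> simp [*, Pi.mulSingle_eq_of_ne]

theorem pure_mul_slot (m : Fin t) (X : Matrix (Fin k) (Fin k) F) (C : Fin t → Matrix (Fin k) (Fin k) F) :
    Asch.pure C * slot m X = Asch.pure (Function.update C m (C m * X)) := by
  rw [slot, pure_mul]
  congr 1
  funext l
  rcases eq_or_ne l m with rfl | h <;> simp [*, Pi.mulSingle_eq_of_ne]

theorem cj_unip_slot (e : ι ≃ (Fin t → Fin k)) (P : GL ι F) {g : GL ι F} {C : Fin t → Matrix (Fin k) (Fin k) F}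
    (hg : (g : Matrix ι ι F) = 1 + phi e P (Asch.pure C))
    (hi : ((g⁻¹ : GL ι F) : Matrix ι ι F) = 1 + phi e P (Asch.pure C)) (m : Fin t)
    (hsq : ∃ l, l ≠ m ∧ C l * C l = 0) (X : Matrix (Fin k) (Fin k) F) :
    cj g (phi e P (slot m X)) =
      phi e P (slot m X + Asch.pure (Function.update C m (C m * X + X * C m))) := by
  obtain ⟨l, hlm, hl⟩ := hsq
  have h1 : Asch.pure C * slot m X * Asch.pure C = 0 := by
    rw [pure_mul_slot]
    refine pure_mul_zero (l := l) ?_
    rw [Function.update_of_ne hlm, hl]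
  rw [cj, hg, hi, ← pure_update_add, ← slot_mul_pure, ← pure_mul_slot]
  simp only [← map_one (phi (F := F) e P), ← map_add, ← map_mul]
  congr 1
  rw [add_mul, one_mul, mul_add, mul_one, add_mul, h1, add_zero, ← add_assoc]

/-- an entry of a pure tensor that is non-zero -/
theorem pure_entry {C : Fin t → Matrix (Fin k) (Fin k) F} {j l : Fin t} (hlj : l ≠ j) {u v u' v' : Fin k}
    (hj : C j u v ≠ 0) (hl : C l u' v' ≠ 0) (h1 : ∀ m, m ≠ j → m ≠ l → C m = 1) (z : Fin k) :
    Asch.pure C (Function.update (Function.update (fun _ => z) j u) l u')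
      (Function.update (Function.update (fun _ => z) j v) l v') ≠ 0 := by
  rw [pure_apply]
  refine Finset.prod_ne_zero_iff.2 fun m _ => ?_
  rcases eq_or_ne m l with rfl | hml
  · simpa using hl
  rcases eq_or_ne m j with rfl | hmj
  · simpa [hml] using hj
  · simp [hml, hmj, h1 m hmj hml]

section

variable {Q : (ι → F) → F} {G : Matrix ι ι F} {J : Matrix (Fin k) (Fin k) F} {c : F}
variable {e : ι ≃ (Fin t → Fin k)} {P : GL ι F}

/-- commutators of a torus element in one slot with `1 + N` -/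
theorem comm_mem_omega (D : TP Q G J c e P) {A : Fin t → Matrix (Fin k) (Fin k) F} {j : Fin t}
    {hj : GL (Fin k) F} (hhj : (hj : Matrix (Fin k) (Fin k) F)ᵀ * J * hj = J)
    {B₀ B : Matrix (Fin k) (Fin k) F} (hB₀ : SymJ J B₀) (hB : B = cj hj B₀ + B₀)
    (hs : ∀ l, SymJ J (A l)) (hsq : ∃ l, l ≠ j ∧ A l * A l = 0) (hd : (∀ a, (J * B₀) a a = 0) ∨ ∃ l, l ≠ j ∧ ∀ a, (J * A l) a a = 0) :
    ∃ g ∈ omegaGL Q, (g : Matrix ι ι F) = 1 + phi e P (Asch.pure (Function.update A j B)) ∧
      ((g⁻¹ : GL ι F) : Matrix ι ι F) = 1 + phi e P (Asch.pure (Function.update A j B)) := by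
  obtain ⟨l, hlj, hl⟩ := hsq
  set C₀ := Function.update A j B₀ with hC₀
  have hzero : ∀ {Y Y' : Matrix (Fin k) (Fin k) F},
      Asch.pure (Function.update A j Y) * Asch.pure (Function.update A j Y') = 0 := fun {Y Y'} =>
    pure_mul_zero (l := l) (by rw [Function.update_of_ne hlj, Function.update_of_ne hlj, hl])
  have hN₀ : phi e P (Asch.pure C₀) * phi e P (Asch.pure C₀) = 0 := by
    rw [← map_mul, hC₀, hzero, map_zero]
  set g₀ := unip D.two _ hN₀ with hg₀
  have hg₀I : g₀ ∈ Cfsg.isometryGroup F Q := by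
    refine D.unip_iso (unip_coe _ _ _) ⟨l, by rw [hC₀, Function.update_of_ne hlj, hl]⟩ (fun m => ?_) ?_
    · rcases eq_or_ne m j with rfl | hm
      · rw [hC₀, Function.update_self]; exact hB₀
      · rw [hC₀, Function.update_of_ne hm]; exact hs m
    · rcases hd with hd | ⟨m, hm, hm'⟩
      · exact ⟨j, by rwa [hC₀, Function.update_self]⟩
      · exact ⟨m, by rwa [hC₀, Function.update_of_ne hm]⟩
  let hh : GL ι F := Units.map (phi e P).toRingHom.toMonoidHom (pureGL (Pi.mulSingle j hj))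
  have hh1 : (hh : Matrix ι ι F) =
      phi e P (Asch.pure fun m => ((Pi.mulSingle j hj : Fin t → GL (Fin k) F) m : Matrix (Fin k) (Fin k) F)) := rfl
  have hhI : hh ∈ Cfsg.isometryGroup F Q := by
    refine D.iso_of_pure hh1 fun m => ?_
    rcases eq_or_ne m j with rfl | hm
    · simpa using hhj
    · simp [Pi.mulSingle_eq_of_ne hm]
  refine ⟨hh * g₀ * hh⁻¹ * g₀⁻¹, mem_omegaGL_comm hhI hg₀I, ?_⟩
  have hconj : ((hh * g₀ * hh⁻¹ : GL ι F) : Matrix ι ι F) =
      1 + phi e P (Asch.pure (Function.update A j (cj hj B₀))) := by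
    show cj hh (g₀ : Matrix ι ι F) = _
    rw [hg₀, unip_coe, cj_add, cj_one]
    congr 1
    show cj (Units.map (phi e P).toRingHom.toMonoidHom (pureGL (Pi.mulSingle j hj))) (phi e P (Asch.pure C₀)) = _
    rw [cj_unitsMap, cj_pureGL]
    congr 2
    funext m
    rcases eq_or_ne m j with rfl | hm
    · simp [hC₀]
    · simp [hC₀, hm, Pi.mulSingle_eq_of_ne hm, cj_one_left]
  have hval : ((hh * g₀ * hh⁻¹ * g₀⁻¹ : GL ι F) : Matrix ι ι F) =
      1 + phi e P (Asch.pure (Function.update A j B)) := by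
    rw [Units.val_mul, hconj]
    show _ * (1 + phi e P (Asch.pure C₀)) = _
    rw [hB, ← pure_update_add, map_add, add_mul, one_mul, mul_add, mul_one, ← map_mul, hC₀, hzero, map_zero,
      add_zero]
    abel
  have hNN : phi e P (Asch.pure (Function.update A j B)) * phi e P (Asch.pure (Function.update A j B)) = 0 := by
    rw [← map_mul, hzero, map_zero]
  refine ⟨hval, ?_⟩
  rw [show hh * g₀ * hh⁻¹ * g₀⁻¹ = unip D.two _ hNN from Units.ext (by rw [hval, unip_coe])]
  rfl

/-- The stabiliser of a tensor power lies strictly inside the normaliser of the one-slot space. -/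
theorem not_maximal [Fintype F] [Nonempty ι] (D : TP Q G J c e P)
    (W₁ : Matrix (Fin k) (Fin k) F → Prop)
    (hinv : ∀ (a : GL (Fin k) F) (d : F), d ≠ 0 →
      (a : Matrix (Fin k) (Fin k) F)ᵀ * J * (a : Matrix (Fin k) (Fin k) F) = d • J → ∀ X, W₁ X → W₁ (cj a X))
    (hanti : ∀ X Y, W₁ X → W₁ Y → ∃ s : F, X * Y + Y * X = s • 1)
    {hj : GL (Fin k) F} (hhj : (hj : Matrix (Fin k) (Fin k) F)ᵀ * J * hj = J)
    {B₀ B : Matrix (Fin k) (Fin k) F} (hB₀ : SymJ J B₀) (hB : B = cj hj B₀ + B₀) (hWB : W₁ B)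
    (hBsq : B * B = 0) {u v : Fin k} (huv : u ≠ v) (hBuv : B u v ≠ 0)
    {i j : Fin t} (hij : i ≠ j) {A X : Matrix (Fin k) (Fin k) F} (hWA : W₁ A) (hWX : W₁ X) (hAsq : A * A = 0)
    (hSA : SymJ J A) (hd₁ : (∀ a, (J * B₀) a a = 0) ∨ ∃ l, l ≠ j ∧ ∀ a, (J * (Pi.mulSingle i A : Fin t → _) l) a a = 0)
    (hAX : A * X + X * A = 1) {u' v' : Fin k} (huv' : u' ≠ v') (hXuv : X u' v' ≠ 0)
    {A₂ : Fin t → Matrix (Fin k) (Fin k) F} (hs₂ : ∀ l, SymJ J (A₂ l)) (hsq₂ : ∃ l, l ≠ j ∧ A₂ l * A₂ l = 0)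
    (hd₂ : (∀ a, (J * B₀) a a = 0) ∨ ∃ l, l ≠ j ∧ ∀ a, (J * A₂ l) a a = 0) {X₂ : Matrix (Fin k) (Fin k) F} (hWX₂ : W₁ X₂)
    {l : Fin t} (hlj : l ≠ j) {u'' v'' : Fin k} (huv'' : u'' ≠ v'')
    (hC₂ : Function.update A₂ i (A₂ i * X₂ + X₂ * A₂ i) l u'' v'' ≠ 0)
    (hC₂' : ∀ m, m ≠ j → m ≠ l → Function.update A₂ i (A₂ i * X₂ + X₂ * A₂ i) m = 1) :
    ∃ K : Subgroup (GL ι F), tensorWreathSubgroup k t e P ⊓ omegaGL Q < K ∧ K < omegaGL Q := by
  have hsJ : SymJ J 1 := by
    obtain ⟨m, -, hm⟩ : ∃ m, m ≠ j ∧ True := ⟨i, hij, trivial⟩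
    have hGs : Gᵀ = G := by
      refine gform_ext (σ := RingHom.id F) fun u v => ?_
      rw [← gform_swap, ← D.pol, ← D.pol, QuadraticMap.polar_comm]
    have h1 : (gramAt (RingHom.id F) G e P)ᵀ = gramAt (RingHom.id F) G e P := by
      apply (rx e).injective
      rw [rx_transpose, rx_gramAt]
      simp [Matrix.transpose_mul, hGs, mul_assoc]
    rw [D.gram, Matrix.transpose_smul, pure_transpose] at h1
    have hc : c ≠ 0 := by
      intro h0
      haveI : Nonempty (Fin t → Fin k) := ⟨e (Classical.arbitrary ι)⟩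
      have := gramAt_det_ne_zero (σ := RingHom.id F) D.det e P
      rw [D.gram, h0, zero_smul, Matrix.det_zero] at this
      exact this rfl
    have h2 : Asch.pure (fun _ : Fin t => Jᵀ) = (1 : F) • Asch.pure (fun _ : Fin t => J) := by
      rw [one_smul]; exact smul_right_injective _ hc h1
    have h3 : Asch.pure (fun _ : Fin t => Jᵀ) ≠ 0 := by
      intro h0
      rw [h0, one_smul] at h2
      haveI : Nonempty (Fin t → Fin k) := ⟨e (Classical.arbitrary ι)⟩
      have := gramAt_det_ne_zero (σ := RingHom.id F) D.det e P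
      rw [D.gram, ← h2, smul_zero, Matrix.det_zero] at this
      exact this rfl
    obtain ⟨d, hd, hd'⟩ := pure_cancel h2 h3 m
    obtain ⟨a, b, hab⟩ : ∃ a b, J a b ≠ 0 := by
      by_contra hcon
      push Not at hcon
      apply D.jdet
      rw [show J = 0 from Matrix.ext hcon]
      haveI : Nonempty (Fin k) := ⟨u⟩
      exact Matrix.det_zero
    have e1 := congrFun (congrFun hd' a) b
    have e2 := congrFun (congrFun hd' b) a
    simp only [Matrix.transpose_apply, Matrix.smul_apply, smul_eq_mul] at e1 e2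
    have : (d - 1) ^ 2 = 0 := by
      have h5 : (d * d - 1) * J a b = 0 := by linear_combination -d * e1 - e2
      have h6 := (mul_eq_zero.1 h5).resolve_right hab
      linear_combination h6 + (1 - d) * D.two
    rw [sq_eq_zero_iff, sub_eq_zero] at this
    rw [SymJ, mul_one]
    rw [this, one_smul] at hd'
    exact hd'
  refine ⟨omegaGL Q ⊓ wnorm (wsp e P W₁), ?_, ?_⟩
  · -- the extra element
    obtain ⟨g, hgΩ, hg, hgi⟩ := comm_mem_omega D (A := Pi.mulSingle i A) hhj hB₀ hB
      (fun m => by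
        rcases eq_or_ne m i with rfl | hm
        · simpa using hSA
        · simpa [Pi.mulSingle_eq_of_ne hm] using hsJ)
      ⟨i, hij, by simpa using hAsq⟩ hd₁
    set C := Function.update (Pi.mulSingle i A : Fin t → Matrix (Fin k) (Fin k) F) j B with hC
    have hCi : C i = A := by simp [hC, hij]
    have hCj : C j = B := by simp [hC]
    have hCm : ∀ m, m ≠ i → m ≠ j → C m = 1 := fun m h1 h2 => by simp [hC, h1, h2]
    have hsq : ∀ m, ∃ m', m' ≠ m ∧ C m' * C m' = 0 := fun m => by
      rcases eq_or_ne m j with rfl | hm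
      · exact ⟨i, hij, by rw [hCi, hAsq]⟩
      · exact ⟨j, hm.symm, by rw [hCj, hBsq]⟩
    have hupd : ∀ (m m' : Fin t) (s : F), m ≠ m' → (∀ r, r ≠ m → r ≠ m' → C r = 1) →
        Asch.pure (Function.update C m (s • 1)) = s • slot m' (C m') := by
      intro m m' s hmm h1
      rw [pure_update_smul, slot]
      congr 2
      funext r
      rcases eq_or_ne r m with rfl | hr
      · simp [hmm]
      rcases eq_or_ne r m' with rfl | hr'
      · simp [hr]
      · simp [hr, hr', h1 r hr hr']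
    have hgW : g ∈ wnorm (wsp e P W₁) := by
      have key : ∀ w ∈ wsp e P W₁, cj g w ∈ wsp e P W₁ := by
        refine cj_gen fun m Y hY => ?_
        rw [cj_unip_slot e P hg hgi m (hsq m), map_add]
        refine add_mem (Submodule.subset_span ⟨m, Y, hY, rfl⟩) ?_
        rcases eq_or_ne m i with rfl | hmi
        · obtain ⟨s, hs⟩ := hanti A Y hWA hY
          rw [hCi, hs, hupd m j s hij (fun r => hCm r), map_smul, hCj]
          exact Submodule.smul_mem _ _ (Submodule.subset_span ⟨j, B, hWB, rfl⟩)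
        rcases eq_or_ne m j with rfl | hmj
        · obtain ⟨s, hs⟩ := hanti B Y hWB hY
          rw [hCj, hs, hupd m i s hij.symm (fun r h1 h2 => hCm r h2 h1), map_smul, hCi]
          exact Submodule.smul_mem _ _ (Submodule.subset_span ⟨i, A, hWA, rfl⟩)
        · rw [hCm m hmi hmj, one_mul, mul_one, ← two_smul F, D.two, zero_smul, pure_update_zero, map_zero]
          exact zero_mem _
      refine ⟨key, ?_⟩
      have : g⁻¹ = g := Units.ext (by rw [hg, hgi])
      rw [this]; exact key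
    refine lt_of_le_of_ne (fun x hx => ⟨hx.2, ?_⟩) fun heq => ?_
    · have hstab : ∀ y ∈ tensorWreathSubgroup k t e P ⊓ omegaGL Q, ∀ w ∈ wsp e P W₁, cj y w ∈ wsp e P W₁ := by
        intro y hy
        have hyI : y ∈ iso (RingHom.id F) G := by
          rw [mem_iso_iff]
          intro u v
          have hyQ := (Quad.mem_iso (Q := Q)).1 (omegaGL_le_iso hy.2)
          rw [← D.pol, ← D.pol]
          simp only [QuadraticMap.polar, ← mulVec_add, hyQ]
        obtain ⟨gs, π, rfl, hgs⟩ := wreath_similitude D.det D.gram hyI hy.1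
        refine cj_gen fun m Y hY => ?_
        obtain ⟨d, hd, hd'⟩ := hgs m
        rw [← cj_cj, ← cj_cj, phi_apply, cj_inv_cj,
          show glReindex e.symm (pureGL gs * permGL π) =
            Units.map (rx e).toAlgHom.toRingHom.toMonoidHom (pureGL gs * permGL π) from rfl,
          cj_rx, ← cj_cj, cj_permGL_slot, cj_pureGL_slot, ← phi_apply]
        obtain ⟨d', hd1, hd2⟩ := hgs (π m)
        exact Submodule.subset_span ⟨π m, _, hinv _ d' hd1 (by simpa using hd2) Y hY, rfl⟩
      exact ⟨hstab x hx, hstab x⁻¹ (inv_mem hx)⟩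
    · have hmem : g ∈ tensorWreathSubgroup k t e P ⊓ omegaGL Q := by rw [heq]; exact ⟨hgΩ, hgW⟩
      obtain ⟨y, hy, hyg⟩ := Subgroup.mem_map.1 hmem.1
      obtain ⟨z, hz, rfl⟩ := Subgroup.mem_map.1 hy
      obtain ⟨gs, π, rfl⟩ := tensorWreathStandard_elem hz
      have h1 : cj g (phi e P (slot i X)) = phi e P (slot (π i) (cj (gs (π i)) X)) := by
        rw [← hyg]
        show cj (P * glReindex e.symm (pureGL gs * permGL π) * P⁻¹) _ = _
        rw [← cj_cj, ← cj_cj, phi_apply, cj_inv_cj,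
          show glReindex e.symm (pureGL gs * permGL π) =
            Units.map (rx e).toAlgHom.toRingHom.toMonoidHom (pureGL gs * permGL π) from rfl,
          cj_rx, ← cj_cj, cj_permGL_slot, cj_pureGL_slot, ← phi_apply]
      rw [cj_unip_slot e P hg hgi i (hsq i), hCi, hAX] at h1
      have h2 := hupd i j 1 hij (fun r => hCm r)
      rw [one_smul, one_smul, hCj] at h2
      rw [h2] at h1
      have h3 := phi_inj e P h1
      -- an entry in each of two slots
      have key : ∀ (m m' : Fin t) (Y : Matrix (Fin k) (Fin k) F) (a b : Fin k), m ≠ m' → a ≠ b →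
          slot m' Y (Function.update (fun _ => u) m a) (Function.update (fun _ => u) m b) = 0 := by
        intro m m' Y a b hmm hab
        exact slot_zero _ _ hmm (by simp [hab])
      rcases eq_or_ne (π i) i with hπ | hπ
      · have := congrFun (congrFun h3 (Function.update (fun _ => u) j u)) (Function.update (fun _ => u) j v)
        rw [Matrix.add_apply, key j i X u v hij.symm huv, hπ, key j i _ u v hij.symm huv, zero_add, slot_apply,
          if_pos (fun r hr => by simp [hr]), Function.update_self, Function.update_self] at this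
        exact hBuv this
      · have := congrFun (congrFun h3 (Function.update (fun _ => u) i u')) (Function.update (fun _ => u) i v')
        rw [Matrix.add_apply, key i j B u' v' hij huv', key i (π i) _ u' v' hπ.symm huv', add_zero, slot_apply,
          if_pos (fun r hr => by simp [hr]), Function.update_self, Function.update_self] at this
        exact hXuv this
  · refine lt_of_le_of_ne inf_le_left fun heq => ?_
    obtain ⟨g, hgΩ, hg, hgi⟩ := comm_mem_omega D (A := A₂) hhj hB₀ hB hs₂ hsq₂ hd₂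
    have hgW : g ∈ wnorm (wsp e P W₁) := (heq.ge hgΩ).2
    have hmem := hgW.1 _ (Submodule.subset_span ⟨i, X₂, hWX₂, rfl⟩)
    set C := Function.update A₂ j B
    rw [cj_unip_slot e P hg hgi i ⟨j, hij.symm, by simp [C, hBsq]⟩] at hmem
    set D₂ := Function.update C i (C i * X₂ + X₂ * C i)
    have hD : ∀ m, m ≠ j → D₂ m = Function.update A₂ i (A₂ i * X₂ + X₂ * A₂ i) m := by
      intro m hm
      rcases eq_or_ne m i with rfl | hmi
      · simp [D₂, C, hij]
      · simp [D₂, C, hm, hmi]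
    set x := Function.update (Function.update (fun _ => u) j u) l u''
    set y := Function.update (Function.update (fun _ => u) j v) l v''
    have hxj : x j ≠ y j := by simp [x, y, hlj.symm, huv]
    have hxl : x l ≠ y l := by simp [x, y, huv'']
    obtain ⟨Z, hZ, hZ0⟩ := wsp_zero_entry hlj hxl hxj _ hmem
    rw [← phi_inj e P hZ, Matrix.add_apply, slot_zero i X₂ (l := j) hij.symm hxj, zero_add] at hZ0
    refine pure_entry hlj ?_ ?_ ?_ u hZ0
    · show D₂ j u v ≠ 0
      simpa [D₂, C, hij.symm] using hBuv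
    · rw [hD l hlj]; exact hC₂
    · intro m hm hml; rw [hD m hm]; exact hC₂' m hm hml

end

end CfsgLib.Perm.Trans.SpinOver
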